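import Groth.Agent.Lib.AbDual21.Phi
import Groth.Agent.Lib.DiagGL.Chars

/-!
# Base change of a dual abelian scheme
-/

universe u

open CategoryTheory CategoryTheory.Limits MonoidalCategory CartesianMonoidalCategory MonObj GrpObj AlgebraicGeometry
open scoped CategoryTheory.Obj

set_option autoImplicit false
set_option linter.style.haveILetI false
set_option linter.unusedSectionVars false
set_option backward.isDefEq.respectTransparency false

noncomputable section

namespace Groth.Agent.AbDual22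

open Groth.Agent.PicDesc21 Groth.Agent.AbDual21

variable {S S' : Scheme.{u}} (β : S' ⟶ S) (A : Over S)

/-- `(A_{S'})_T = A_T`. -/
def bcIso (T : Over S') : PicF.XT (Red.bc β A).hom T ≅ PicF.XT A.hom ((Over.map β).obj T) :=
  pullbackLeftPullbackSndIso A.hom β T.hom

@[reassoc]
theorem bcIso_fst (T : Over S') :
    (bcIso β A T).hom ≫ pullback.fst A.hom ((Over.map β).obj T).hom =
      pullback.fst (Red.bc β A).hom T.hom ≫ pullback.fst A.hom β :=
  pullbackLeftPullbackSndIso_hom_fst _ _ _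

@[reassoc]
theorem bcIso_snd (T : Over S') :
    (bcIso β A T).hom ≫ pullback.snd A.hom ((Over.map β).obj T).hom = pullback.snd (Red.bc β A).hom T.hom :=
  pullbackLeftPullbackSndIso_hom_snd _ _ _

@[reassoc]
theorem bcIso_natural {T T' : Over S'} (g : T' ⟶ T) :
    PicF.XTmap (Red.bc β A).hom g ≫ (bcIso β A T).hom =
      (bcIso β A T').hom ≫ PicF.XTmap A.hom ((Over.map β).map g) := by
  apply pullback.hom_ext
  · simp [bcIso, PicF.XTmap]
  · simp [bcIso, PicF.XTmap]

theorem pullCl_bcIso_natural {T T' : Over S'} (g : T' ⟶ T) (c : PicF.Cl (PicF.XT (Red.bc β A).hom T)) :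
    PicF.pullCl (bcIso β A T').inv (PicF.pullCl (PicF.XTmap (Red.bc β A).hom g) c) =
      PicF.pullCl (PicF.XTmap A.hom ((Over.map β).map g)) (PicF.pullCl (bcIso β A T).inv c) := by
  rw [pullCl_pullCl, pullCl_pullCl]
  congr 1
  rw [Iso.inv_comp_eq, ← Category.assoc, ← bcIso_natural, Category.assoc, Iso.hom_inv_id, Category.comp_id]

theorem pullCl_inv_hom {T : Over S'} (c : PicF.Cl (PicF.XT (Red.bc β A).hom T)) :
    PicF.pullCl (bcIso β A T).hom (PicF.pullCl (bcIso β A T).inv c) = c := by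
  rw [pullCl_pullCl, Iso.hom_inv_id, PicLoc.pullCl_id]

theorem pullCl_hom_inv {T : Over S'} (c : PicF.Cl (PicF.XT A.hom ((Over.map β).obj T))) :
    PicF.pullCl (bcIso β A T).inv (PicF.pullCl (bcIso β A T).hom c) = c := by
  rw [pullCl_pullCl, Iso.inv_hom_id, PicLoc.pullCl_id]

theorem picZero_down {T : Over S'} {c : PicF.Cl (PicF.XT (Red.bc β A).hom T)}
    (hc : AbDual.IsPicZeroCl (Red.bc β A).hom T c) :
    AbDual.IsPicZeroCl A.hom ((Over.map β).obj T) (PicF.pullCl (bcIso β A T).inv c) :=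
  picZero_pull hc _ (𝟙 _) ((((Iso.inv_comp_eq _).2 (bcIso_snd β A T).symm)).trans (Category.comp_id _).symm)

theorem picZero_up {T : Over S'} {c : PicF.Cl (PicF.XT A.hom ((Over.map β).obj T))}
    (hc : AbDual.IsPicZeroCl A.hom ((Over.map β).obj T) c) :
    AbDual.IsPicZeroCl (Red.bc β A).hom T (PicF.pullCl (bcIso β A T).hom c) :=
  picZero_pull hc _ (𝟙 _) ((bcIso_snd β A T).trans (Category.comp_id _).symm)

/-- The comparison of two bases for a member of a covering. -/
def ovrCmp (T : Over S') {U : Scheme.{u}} (u : U ⟶ T.left) :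
    (Over.map β).obj (AbDual.ovr T u) ⟶ AbDual.ovr ((Over.map β).obj T) u :=
  Over.homMk (𝟙 U) (by simp [AbDual.ovr])

theorem ovrCmp_comp (T : Over S') {U : Scheme.{u}} (u : U ⟶ T.left) :
    ovrCmp β T u ≫ AbDual.ovrHom ((Over.map β).obj T) u = (Over.map β).map (AbDual.ovrHom T u) :=
  Over.OverMorphism.ext (Category.id_comp u)

variable {A} {At : Over S} (φ : ∀ T : Over S, PicF.Cl (PicF.XT A.hom T) → (T ⟶ At))

/-- The universal map of the base change. -/
def bcPhi (T : Over S') (c : PicF.Cl (PicF.XT (Red.bc β A).hom T)) : T ⟶ Red.bc β At :=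
  (Over.mapPullbackAdj β).homEquiv T At (φ ((Over.map β).obj T) (PicF.pullCl (bcIso β A T).inv c))

variable [GrpObj At]

theorem fl_bcPhi (T : Over S') (c : PicF.Cl (PicF.XT (Red.bc β A).hom T)) :
    DiagGL.fl β At (bcPhi β φ T c) = φ ((Over.map β).obj T) (PicF.pullCl (bcIso β A T).inv c) :=
  Equiv.symm_apply_apply _ _

variable (hφ : AbDual.IsDualAV Scheme.fppfPrecoverage A At φ)

include hφ in
/-- The base change of a dual is a dual. -/
theorem isDualAV_bc : AbDual.IsDualAV Scheme.fppfPrecoverage (Red.bc β A) (Red.bc β At) (bcPhi β φ) := by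
  refine ⟨⟨fun T T' g c hc => ?_, fun T g => ?_, fun T c c' hc hc' h => ?_⟩, fun T L M hL hM => ?_⟩
  · refine DiagGL.fl_injective β At ?_
    rw [DiagGL.fl_comp, fl_bcPhi, fl_bcPhi, pullCl_bcIso_natural]
    exact hφ.relPic.natural _ _ _ _ (picZero_down β A hc)
  · obtain ⟨R, hR, hR'⟩ := hφ.relPic.locallySurjective ((Over.map β).obj T) (DiagGL.fl β At g)
    refine ⟨R, hR, fun U u hu => ?_⟩
    obtain ⟨c, hc, hcφ⟩ := hR' u hu
    have hc₁ : AbDual.IsPicZeroCl A.hom _ (PicF.pullCl (PicF.XTmap A.hom (ovrCmp β T u)) c) :=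
      picZero_pull hc _ (ovrCmp β T u).left (pullback.lift_snd _ _ _)
    refine ⟨PicF.pullCl (bcIso β A _).hom (PicF.pullCl (PicF.XTmap A.hom (ovrCmp β T u)) c), picZero_up β A hc₁,
      DiagGL.fl_injective β At ?_⟩
    rw [fl_bcPhi, pullCl_hom_inv, DiagGL.fl_comp, hφ.relPic.natural _ _ _ _ hc, hcφ, ← Category.assoc, ovrCmp_comp]
  · have h' := congrArg (DiagGL.fl β At) h
    rw [fl_bcPhi, fl_bcPhi] at h'
    obtain ⟨R, hR, hR'⟩ := hφ.relPic.locallyInjective _ _ _ (picZero_down β A hc) (picZero_down β A hc') h'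
    refine ⟨R, hR, fun U u hu => ?_⟩
    have e := congrArg (PicF.pullCl ((bcIso β A (AbDual.ovr T u)).hom ≫ PicF.XTmap A.hom (ovrCmp β T u))) (hR' u hu)
    have key : ∀ c : PicF.Cl (PicF.XT (Red.bc β A).hom T),
        PicF.pullCl ((bcIso β A (AbDual.ovr T u)).hom ≫ PicF.XTmap A.hom (ovrCmp β T u))
          (PicF.pullCl (PicF.XTmap A.hom (AbDual.ovrHom ((Over.map β).obj T) u)) (PicF.pullCl (bcIso β A T).inv c)) =
          PicF.pullCl (PicF.XTmap (Red.bc β A).hom (AbDual.ovrHom T u)) c := by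
      intro c
      rw [pullCl_pullCl, pullCl_pullCl]
      congr 1
      simp only [Category.assoc]
      rw [← Category.assoc (PicF.XTmap A.hom (ovrCmp β T u)),
        show PicF.XTmap A.hom (ovrCmp β T u) ≫ PicF.XTmap A.hom (AbDual.ovrHom ((Over.map β).obj T) u) =
          PicF.XTmap A.hom ((Over.map β).map (AbDual.ovrHom T u)) by
            rw [← ovrCmp_comp]; apply pullback.hom_ext <;> simp [PicF.XTmap]]
      rw [← Category.assoc, ← bcIso_natural, Category.assoc, Iso.hom_inv_id, Category.comp_id]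
    rwa [key, key] at e
  · refine DiagGL.fl_injective β At ?_
    rw [DiagGL.fl_mul, fl_bcPhi, fl_bcPhi, fl_bcPhi, ← PicGrp.mulCl_cl L M, pullCl_mulCl,
      phi_mul hφ (picZero_down β A hL) (picZero_down β A hM)]

end Groth.Agent.AbDual22

end
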