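import Groth.Agent.Lib.AbDual22.BaseChange
import Groth.Agent.Lib.RR22.Classify
import Groth.Agent.Lib.FlatH4.SmoothFibres
import Groth.Agent.Lib.AbRigid.FlatFibre

/-!
# The canonical map to the bidual is an isomorphism
-/

universe u

open CategoryTheory CategoryTheory.Limits MonoidalCategory CartesianMonoidalCategory MonObj GrpObj AlgebraicGeometry
open scoped CategoryTheory.Obj

set_option linter.style.haveILetI false
set_option linter.unusedSectionVars false
set_option maxHeartbeats 1000000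
set_option backward.isDefEq.respectTransparency false

noncomputable section

namespace Groth.Agent.AbDual22

open Groth.Agent.PicDesc21 Groth.Agent.AbDual21

/-- The exchange of the factors. -/
abbrev sw {S : Scheme.{u}} (V W : Over S) : V ⊗ W ⟶ W ⊗ V := lift (snd V W) (fst V W)

theorem pullbackSymmetry_eq_sw {S : Scheme.{u}} (V W : Over S) :
    (pullbackSymmetry V.hom W.hom).hom = (sw V W).left := by
  refine pullback.hom_ext ?_ ?_
  · exact (pullbackSymmetry_hom_comp_fst _ _).trans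
      (congrArg CommaMorphism.left (lift_fst (snd V W) (fst V W))).symm
  · exact (pullbackSymmetry_hom_comp_snd _ _).trans
      (congrArg CommaMorphism.left (lift_snd (snd V W) (fst V W))).symm

section Field

variable {K : Type u} [Field K] {X Xt Xtt : Over (Spec (CommRingCat.of K))} [GrpObj X] [GrpObj Xt] [GrpObj Xtt]
  [IsProper X.hom] [Smooth X.hom] [GeometricallyConnected X.hom]
  [IsProper Xt.hom] [Smooth Xt.hom] [GeometricallyConnected Xt.hom]
  [IsProper Xtt.hom] [Smooth Xtt.hom] [GeometricallyConnected Xtt.hom]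

/-- Over a field the canonical map to the bidual is an isomorphism. -/
theorem isIso_toBidual_field
    {φ : ∀ T : Over (Spec (CommRingCat.of K)), PicF.Cl (PicF.XT X.hom T) → (T ⟶ Xt)}
    {ψ : ∀ T : Over (Spec (CommRingCat.of K)), PicF.Cl (PicF.XT Xt.hom T) → (T ⟶ Xtt)}
    (hφ : AbDual.IsDualAV Scheme.fppfPrecoverage X Xt φ) (hψ : AbDual.IsDualAV Scheme.fppfPrecoverage Xt Xtt ψ)
    {ξ : PicF.Cl (PicF.XT X.hom Xt)} (hξ : AbDual.IsPoincareCl X Xt φ ξ)
    {η' : PicF.Cl (PicF.XT Xt.hom X)} (hη : η' = PicF.pullCl (sw Xt X).left ξ)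
    (hη0 : AbDual.IsPicZeroCl Xt.hom X η') : IsIso (ψ X η') := by
  haveI : GeometricallyIntegral X.hom := AbRigid.geometricallyIntegral_of_smooth X
  haveI : GeometricallyIntegral Xt.hom := AbRigid.geometricallyIntegral_of_smooth Xt
  haveI : IsProper (Xt ⊗ X).hom := inferInstanceAs (IsProper (pullback.fst Xt.hom X.hom ≫ Xt.hom))
  haveI : IsProper (X ⊗ Xt).hom := inferInstanceAs (IsProper (pullback.fst X.hom Xt.hom ≫ X.hom))
  haveI : GeometricallyIntegral (Xt ⊗ X).hom := AbRigid.geometricallyIntegral_tensorObj Xt X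
  haveI : GeometricallyIntegral (X ⊗ Xt).hom := AbRigid.geometricallyIntegral_tensorObj X Xt
  obtain ⟨P, rfl, hP⟩ := picZero_invertible hξ.1
  obtain ⟨g, hg⟩ := Index22.exists_dim (A := X)
  obtain ⟨hgt, -⟩ := Poincare22.exists_local hφ hP hξ hg
  have hPe := RR22.euler_poincare hφ hP hξ hg
  obtain ⟨ξ', hξ'⟩ := RR22.exists_poincare hψ
  obtain ⟨P', rfl, hP'⟩ := picZero_invertible hξ'.1
  obtain ⟨Q, rfl, hQ⟩ := picZero_invertible hη0
  have hQB : PicF.IsTrivialCl (PicF.pullCl (PicF.secT Xt.hom η[Xt].left (Over.w η[Xt]) X) (PicF.cl Q)) := by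
    refine (KernelKL22.isTrivialCl_secT_iff _).2 ?_
    have h1 : lift (1 : X ⟶ Xt) (𝟙 X) ≫ sw Xt X = (ρ_ X).inv ≫ X ◁ η[Xt] := by
      apply CartesianMonoidalCategory.hom_ext
      · simp [sw]
      · simp [sw, Hom.one_def]
    have h2 := (Poincare22.triv_iff hφ hξ (η[Xt])).2 (by
      rw [Hom.one_def, toUnit_unique (toUnit _) (𝟙 _), Category.id_comp])
    rw [PicF.IsTrivialCl, hη, unitCl, pullCl_pullCl, ← Over.comp_left, h1, Over.comp_left, ← pullCl_pullCl, h2]
    exact pullCl_structure _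
  have hQA : PicF.IsTrivialCl (PicF.pullCl (PicF.XTmap Xt.hom η[X]) (PicF.cl Q)) := by
    have h1 : Xt ◁ η[X] ≫ sw Xt X = (ρ_ Xt).hom ≫ lift (1 : Xt ⟶ X) (𝟙 Xt) := by
      apply CartesianMonoidalCategory.hom_ext
      · simp [sw, Hom.one_def]
        exact congrArg (· ≫ η[X]) (toUnit_unique _ _)
      · simp [sw, rightUnitor_hom]
    rw [PicF.IsTrivialCl, hη, XTmap_eq, pullCl_pullCl, ← Over.comp_left, h1, Over.comp_left, ← pullCl_pullCl,
      show PicF.pullCl (lift (1 : Xt ⟶ X) (𝟙 Xt)).left (PicF.cl P) = PicF.cl (Coh.structureModule Xt.left) from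
        KernelKL22.unitCl_poincare hφ hξ]
    exact pullCl_structure _
  refine (RR22.natAbs_euler_eq_one_iff hψ hP' hξ' hg hgt hQ hη0 hQB hQA).1 ?_
  haveI : IsIso (sw Xt X) := ⟨sw X Xt, by apply CartesianMonoidalCategory.hom_ext <;> simp [sw],
    by apply CartesianMonoidalCategory.hom_ext <;> simp [sw]⟩
  haveI : IsIso (sw Xt X).left := inferInstanceAs (IsIso ((Over.forget _).map (sw Xt X)))
  obtain ⟨i⟩ := (PicGrp.cl_eq_cl_iff _ _).1 (hη.trans (PicLoc.pullCl_cl (sw Xt X).left P))
  letI : (Xt ⊗ X).left.Over (Spec (CommRingCat.of K)) := ⟨(Xt ⊗ X).hom⟩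
  rw [CurveCoh17.euler_iso (X := (Xt ⊗ X).left) i, IsogEuler22.euler_pullback (sw Xt X) 1
    (fun y => congrFun (Scheme.Hom.finrank_eq_one_of_isIso _) y) (CubeField.isCoh_of_isInvertible hP), hPe]
  simp [Int.natAbs_pow]

end Field

section Base

variable {S : Scheme.{u}}

variable {S' : Scheme.{u}} (b : S' ⟶ S)

theorem fl_left (X : Over S) {T : Over S'} (x : T ⟶ Red.bc b X) :
    (DiagGL.fl b X x).left = x.left ≫ pullback.fst X.hom b := by
  simp [DiagGL.fl, Adjunction.homEquiv_counit]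

theorem η_bc_fst (X : Over S) [GrpObj X] :
    η[Red.bc b X].left ≫ pullback.fst X.hom b = b ≫ η[X].left := by
  have h := DiagGL.fl_mul b X (1 : 𝟙_ (Over S') ⟶ Red.bc b X) 1
  rw [_root_.one_mul] at h
  have h1 : DiagGL.fl b X (1 : 𝟙_ (Over S') ⟶ Red.bc b X) = 1 := left_eq_mul.mp h
  have h2 := congrArg Over.Hom.left h1
  rw [fl_left, Hom.one_def, Hom.one_def, toUnit_unique (toUnit _) (𝟙 (𝟙_ (Over S'))), Category.id_comp, Over.comp_left,
    Over.toUnit_left] at h2
  refine h2.trans (congrArg (· ≫ η[X].left) ?_)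
  exact Category.id_comp b

/-- A map of flat proper schemes of finite presentation which is an isomorphism on the fibres is an isomorphism. -/
theorem isIso_of_fibres [IsLocallyNoetherian S] {X Y : Over S} [IsProper X.hom] [Flat X.hom] [IsProper Y.hom]
    (f : X ⟶ Y) (h : ∀ s : S, IsIso (AbRigid.fibreMap f s)) : IsIso f := by
  haveI : LocallyOfFinitePresentation X.hom := inferInstance
  haveI : IsLocallyNoetherian Y.left := LocallyOfFiniteType.isLocallyNoetherian Y.hom
  haveI : ∀ s, IsIso (AbRigid.fibreMap f s).left := fun s => by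
    haveI := h s
    exact inferInstanceAs (IsIso ((Over.forget _).map (AbRigid.fibreMap f s)))
  haveI : IsProper (f.left ≫ Y.hom) := by rw [Over.w]; infer_instance
  haveI : IsProper f.left := IsProper.of_comp f.left Y.hom
  haveI : LocallyOfFinitePresentation (f.left ≫ Y.hom) := by rw [Over.w]; infer_instance
  haveI : Flat (f.left ≫ Y.hom) := by rw [Over.w]; infer_instance
  haveI : Flat f.left := FlatH4.flat_of_fibres f.left Y.hom fun s =>
    (AbRigid.fibre_iff f s @Flat).2 inferInstance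
  haveI : LocallyQuasiFinite f.left := LocallyQuasiFinite.of_finite_preimage_singleton _ fun y => by
    refine Set.Subsingleton.finite fun a ha b hb => ?_
    obtain ⟨a', ha'⟩ : a ∈ Set.range (X.hom.fiberι (Y.hom y)) := by
      rw [Scheme.Hom.range_fiberι]
      show X.hom a = Y.hom y
      rw [← Over.w f, Scheme.Hom.comp_apply, ha]
    obtain ⟨b', hb'⟩ : b ∈ Set.range (X.hom.fiberι (Y.hom y)) := by
      rw [Scheme.Hom.range_fiberι]
      show X.hom b = Y.hom y
      rw [← Over.w f, Scheme.Hom.comp_apply, hb]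
    have hw := (AbRigid.isPullback_fibreMap f (Y.hom y)).w
    have e : Y.hom.fiberι (Y.hom y) ((AbRigid.fibreMap f (Y.hom y)).left a') =
        Y.hom.fiberι (Y.hom y) ((AbRigid.fibreMap f (Y.hom y)).left b') := by
      have h3 := fun v => congrArg (fun g => g v) hw
      refine ((h3 a').symm.trans ?_).trans (h3 b')
      show f.left (X.hom.fiberι (Y.hom y) a') = f.left (X.hom.fiberι (Y.hom y) b')
      rw [ha', hb']
      exact (show f.left a = y from ha).trans (show f.left b = y from hb).symm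
    rw [← ha', ← hb', (AbRigid.fibreMap f (Y.hom y)).left.isOpenEmbedding.injective
      ((Y.hom.fiberι (Y.hom y)).isEmbedding.injective e)]
  haveI : IsFinite f.left := IsFinite.of_isProper_of_locallyQuasiFinite f.left
  haveI : LocallyOfFinitePresentation f.left := inferInstance
  haveI : IsIso f.left := (Scheme.Hom.isIso_iff_finrank_eq f.left).2 (funext fun y => by
    obtain ⟨y', hy'⟩ : y ∈ Set.range (Y.hom.fiberι (Y.hom y)) := by
      rw [Scheme.Hom.range_fiberι]; rfl
    rw [← hy']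
    exact (Scheme.Hom.finrank_of_isPullback _ _ _ _ (AbRigid.isPullback_fibreMap f (Y.hom y)) y').symm.trans
      (congrFun (Scheme.Hom.finrank_eq_one_of_isIso _) _))
  haveI : IsIso ((Over.forget _).map f) := ‹IsIso f.left›
  exact isIso_of_reflects_iso f (Over.forget _)

variable {X Xt Xtt : Over S} [GrpObj X] [GrpObj Xt] [GrpObj Xtt]
  [IsProper X.hom] [Smooth X.hom] [GeometricallyConnected X.hom]
  [IsProper Xt.hom] [Smooth Xt.hom] [GeometricallyConnected Xt.hom]
  [IsProper Xtt.hom] [Smooth Xtt.hom] [GeometricallyConnected Xtt.hom]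
  {φ : ∀ T : Over S, PicF.Cl (PicF.XT X.hom T) → (T ⟶ Xt)}
  {ψ : ∀ T : Over S, PicF.Cl (PicF.XT Xt.hom T) → (T ⟶ Xtt)}
  (hφ : AbDual.IsDualAV Scheme.fppfPrecoverage X Xt φ) (hψ : AbDual.IsDualAV Scheme.fppfPrecoverage Xt Xtt ψ)
  {ξ : PicF.Cl (PicF.XT X.hom Xt)} (hξ : AbDual.IsPoincareCl X Xt φ ξ)
  (hη0 : AbDual.IsPicZeroCl Xt.hom X (PicF.pullCl (sw Xt X).left ξ))

include hφ hψ hξ hη0 in
/-- The canonical map to the bidual is a homomorphism. -/
theorem isMonHom_toBidual : IsMonHom (ψ X (PicF.pullCl (sw Xt X).left ξ)) := by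
  obtain ⟨P, rfl, hP⟩ := picZero_invertible hξ.1
  set η' := PicF.pullCl (sw Xt X).left (PicF.cl P) with hη
  set κ := ψ X η'
  have hadd : ∀ {V : Over S} (a b : V ⟶ X), (a * b) ≫ κ = (a ≫ κ) * (b ≫ κ) := by
    intro V a b
    rw [← phi_natural hψ _ hη0, ← phi_natural hψ _ hη0, ← phi_natural hψ _ hη0,
      ← phi_mul hψ (picZero_whisker a hη0) (picZero_whisker b hη0)]
    refine congrArg (ψ V) ?_
    have e : ∀ c : V ⟶ X, Xt ◁ c ≫ sw Xt X = lift (snd Xt V ≫ c) (fst Xt V) := fun c => by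
      apply CartesianMonoidalCategory.hom_ext <;> simp [sw]
    simp only [η', pullCl_pullCl, ← Over.comp_left, e, MonObj.comp_mul]
    exact Poincare22.pull_lift_mul hφ hξ _ _ _
  have hone : (1 : 𝟙_ (Over S) ⟶ X) ≫ κ = 1 := by
    have h := hadd (1 : 𝟙_ (Over S) ⟶ X) 1
    rw [_root_.one_mul] at h
    exact left_eq_mul.mp h
  refine ⟨?_, ?_⟩
  · rw [Hom.one_def, Hom.one_def, toUnit_unique (toUnit _) (𝟙 _), Category.id_comp, Category.id_comp] at hone
    exact hone
  · have hμ : ∀ (G : Over S) [GrpObj G], μ[G] = fst G G * snd G G := fun G _ => by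
      rw [Hom.mul_def, lift_fst_snd, Category.id_comp]
    rw [hμ X, hμ Xtt, hadd, MonObj.comp_mul, tensorHom_fst, tensorHom_snd]

include hφ hψ hξ hη0 in
/-- The canonical map to the bidual is an isomorphism. -/
theorem isIso_toBidual [IsLocallyNoetherian S] : IsIso (ψ X (PicF.pullCl (sw Xt X).left ξ)) := by
  refine isIso_of_fibres _ fun s => ?_
  let b : Spec (CommRingCat.of (S.residueField s)) ⟶ S := S.fromSpecResidueField s
  set κ := ψ X (PicF.pullCl (sw Xt X).left ξ)
  let εX := DiagGL.fl b X (𝟙 (Red.bc b X))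
  let εT := DiagGL.fl b Xt (𝟙 (Red.bc b Xt))
  let ξb := PicF.pullCl (bcIso b X (Red.bc b Xt)).hom (PicF.pullCl (PicF.XTmap X.hom εT) ξ)
  let ηb := PicF.pullCl (bcIso b Xt (Red.bc b X)).hom
    (PicF.pullCl (PicF.XTmap Xt.hom εX) (PicF.pullCl (sw Xt X).left ξ))
  have hφb := isDualAV_bc b φ hφ
  have hψb := isDualAV_bc b ψ hψ
  have h1 : AbDual.IsPicZeroCl X.hom _ (PicF.pullCl (PicF.XTmap X.hom εT) ξ) :=
    picZero_pull hξ.1 _ εT.left (pullback.lift_snd _ _ _)
  have h2 : AbDual.IsPicZeroCl Xt.hom _ (PicF.pullCl (PicF.XTmap Xt.hom εX) (PicF.pullCl (sw Xt X).left ξ)) :=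
    picZero_pull hη0 _ εX.left (pullback.lift_snd _ _ _)
  have hξb : AbDual.IsPoincareCl (Red.bc b X) (Red.bc b Xt) (bcPhi b φ) ξb := by
    refine ⟨picZero_up b X h1, DiagGL.fl_injective b Xt ?_, ?_⟩
    · rw [fl_bcPhi, pullCl_hom_inv, hφ.relPic.natural _ _ _ _ hξ.1, hξ.2.1, Category.comp_id]
    · rw [pullCl_pullCl, pullCl_pullCl]
      have e : PicF.secT (Red.bc b X).hom η[Red.bc b X].left (Over.w η[Red.bc b X]) (Red.bc b Xt) ≫
          (bcIso b X (Red.bc b Xt)).hom ≫ PicF.XTmap X.hom εT =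
          εT.left ≫ PicF.secT X.hom η[X].left (Over.w η[X]) Xt := by
        have hfl := η_bc_fst b X
        apply pullback.hom_ext
        · simp [PicF.secT, PicF.XTmap, bcIso, hfl, εT, fl_left]
          rw [← pullback.condition_assoc]
        · simp [PicF.secT, PicF.XTmap, bcIso, εT, fl_left]
          exact Category.id_comp _
      rw [Category.assoc, e, ← pullCl_pullCl]
      exact pullCl_trivial _ hξ.2.2
  have hηb : ηb = PicF.pullCl (sw (Red.bc b Xt) (Red.bc b X)).left ξb := by
    simp only [ηb, ξb, pullCl_pullCl, Category.assoc]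
    congr 1
    apply pullback.hom_ext
    · simp [PicF.XTmap, bcIso, εX, εT, sw, fl_left]
    · simp [PicF.XTmap, bcIso, εX, εT, sw, fl_left]
  have hκ : AbRigid.fibreMap κ s = bcPhi b ψ (Red.bc b X) ηb := by
    refine DiagGL.fl_injective b Xtt ?_
    rw [fl_bcPhi, pullCl_hom_inv, hψ.relPic.natural _ _ _ _ hη0]
    exact (congrArg (DiagGL.fl b Xtt) (Category.id_comp _).symm).trans (DiagGL.fl_comp_map b _ κ)
  rw [hκ]
  haveI : IsProper (Red.bc b X).hom := MorphismProperty.pullback_snd _ _ inferInstance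
  haveI : Smooth (Red.bc b X).hom := MorphismProperty.pullback_snd _ _ inferInstance
  haveI : GeometricallyConnected (Red.bc b X).hom := MorphismProperty.pullback_snd _ _ inferInstance
  haveI : IsProper (Red.bc b Xt).hom := MorphismProperty.pullback_snd _ _ inferInstance
  haveI : Smooth (Red.bc b Xt).hom := MorphismProperty.pullback_snd _ _ inferInstance
  haveI : GeometricallyConnected (Red.bc b Xt).hom := MorphismProperty.pullback_snd _ _ inferInstance
  haveI : IsProper (Red.bc b Xtt).hom := MorphismProperty.pullback_snd _ _ inferInstance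
  haveI : Smooth (Red.bc b Xtt).hom := MorphismProperty.pullback_snd _ _ inferInstance
  haveI : GeometricallyConnected (Red.bc b Xtt).hom := MorphismProperty.pullback_snd _ _ inferInstance
  exact isIso_toBidual_field hφb hψb hξb hηb (picZero_up b Xt h2)

end Base

end Groth.Agent.AbDual22

end
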