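import Groth.Agent.Lib.AbDual22.BaseChange
import Groth.Agent.Lib.AbDual21.Square
import Groth.Agent.Lib.RR22.RR
import Groth.Agent.Lib.GrpUnr20.Basic
import Groth.Agent.Lib.AVDegree22.MulRank
import Groth.Agent.S7790

/-!
# The transpose of an isogeny
-/

universe u

open CategoryTheory CategoryTheory.Limits MonoidalCategory CartesianMonoidalCategory MonObj GrpObj AlgebraicGeometry
open scoped CategoryTheory.Obj

set_option linter.style.haveILetI false
set_option linter.unusedSectionVars false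
set_option maxHeartbeats 1000000
set_option synthInstance.maxHeartbeats 400000
set_option backward.isDefEq.respectTransparency false

noncomputable section

namespace Groth.Agent.AbDual22

open Groth.Agent.PicDesc21 Groth.Agent.AbDual21

section Formal

variable {S : Scheme.{u}} {A At B Bt : Over S} [GrpObj A] [GrpObj At] [GrpObj B] [GrpObj Bt]
  [IsProper A.hom] [Smooth A.hom] [GeometricallyConnected A.hom]
  [IsProper B.hom] [Smooth B.hom] [GeometricallyConnected B.hom]
  [IsSeparated At.hom] [IsSeparated Bt.hom]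
  {φ : ∀ T : Over S, PicF.Cl (PicF.XT A.hom T) → (T ⟶ At)}
  {ψ : ∀ T : Over S, PicF.Cl (PicF.XT B.hom T) → (T ⟶ Bt)}
  (hφ : AbDual.IsDualAV Scheme.fppfPrecoverage A At φ) (hψ : AbDual.IsDualAV Scheme.fppfPrecoverage B Bt ψ)

theorem pullCl_exchange {V T : Over S} (f : A ⟶ B) (q : V ⟶ T) (c : PicF.Cl (PicF.XT B.hom T)) :
    PicF.pullCl (A ◁ q).left (PicF.pullCl (f ▷ T).left c) =
      PicF.pullCl (f ▷ V).left (PicF.pullCl (B ◁ q).left c) := by
  rw [pullCl_pullCl, pullCl_pullCl, ← Over.comp_left, ← Over.comp_left, whisker_exchange]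

include hφ hψ in
/-- The pullback of a class only depends on its point of the dual. -/
theorem phi_pull_congr (f : A ⟶ B) {T : Over S} {c d : PicF.Cl (PicF.XT B.hom T)}
    (hc : AbDual.IsPicZeroCl B.hom T c) (hd : AbDual.IsPicZeroCl B.hom T d) (h : ψ T c = ψ T d) :
    φ T (PicF.pullCl (f ▷ T).left c) = φ T (PicF.pullCl (f ▷ T).left d) := by
  obtain ⟨R, hR, hR'⟩ := hψ.relPic.locallyInjective _ _ _ hc hd h
  refine hom_ext_presieve hR fun U u hu => ?_
  rw [← phi_natural hφ _ (picZero_whiskerRight f hc), ← phi_natural hφ _ (picZero_whiskerRight f hd),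
    pullCl_exchange, pullCl_exchange, ← XTmap_eq, hR' u hu]

omit [IsProper B.hom] [Smooth B.hom] [GeometricallyConnected B.hom] in
include hφ in
/-- A Poincaré class exists over any base. -/
theorem exists_poincare_base : ∃ ξ, AbDual.IsPoincareCl A At φ ξ := by
  obtain ⟨c, hc, ht, h⟩ := RigDesc22.exists_rig A.hom η[A].left (Over.w η[A]) (RigDesc22.good_picZero A.hom)
    hφ.relPic.natural hφ.relPic.locallySurjective hφ.relPic.locallyInjective
    (fun U τ => AbDual21.bijective_appTop_snd A U τ) At (𝟙 At)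
  exact ⟨c, hc, h, ht⟩

include hφ hψ in
/-- A transpose exists. -/
theorem exists_transpose (f : A ⟶ B) : ∃ ft : Bt ⟶ At, AbDual.IsTranspose f φ ψ ft := by
  obtain ⟨ξ, hξ⟩ := exists_poincare_base hψ
  refine ⟨φ Bt (PicF.pullCl (f ▷ Bt).left ξ), fun T c hc => ?_⟩
  rw [bcMap_eq, ← phi_natural hφ _ (picZero_whiskerRight f hξ.1), pullCl_exchange]
  refine phi_pull_congr hφ hψ f hc (picZero_whisker _ hξ.1) ?_
  rw [phi_natural hψ _ hξ.1, hξ.2.1, Category.comp_id]

omit [IsProper A.hom] [Smooth A.hom] [GeometricallyConnected A.hom] [IsProper B.hom] [Smooth B.hom]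
  [GeometricallyConnected B.hom] in
include hψ in
/-- A transpose is unique. -/
theorem transpose_unique {f : A ⟶ B} {ft ft' : Bt ⟶ At} (h : AbDual.IsTranspose f φ ψ ft)
    (h' : AbDual.IsTranspose f φ ψ ft') : ft = ft' :=
  dual_hom_ext hψ fun T c hc => (h T c hc).symm.trans (h' T c hc)

include hφ hψ in
/-- A transpose preserves the unit. -/
theorem one_comp_transpose {f : A ⟶ B} {ft : Bt ⟶ At} (h : AbDual.IsTranspose f φ ψ ft) (T : Over S) :
    (1 : T ⟶ Bt) ≫ ft = 1 := by
  rw [← phi_one hψ T, ← h T _ (picZero_one T), bcMap_eq,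
    show PicF.pullCl (f ▷ T).left (triv B T) = triv A T from pullCl_structure _]
  exact phi_one hφ T

end Formal

section Comp

variable {S : Scheme.{u}} {A At B Bt C Ct : Over S}
  {φ : ∀ T : Over S, PicF.Cl (PicF.XT A.hom T) → (T ⟶ At)}
  {ψ : ∀ T : Over S, PicF.Cl (PicF.XT B.hom T) → (T ⟶ Bt)}
  {θ : ∀ T : Over S, PicF.Cl (PicF.XT C.hom T) → (T ⟶ Ct)}

theorem isTranspose_comp {f : A ⟶ B} {g : B ⟶ C} {ft : Bt ⟶ At} {gt : Ct ⟶ Bt}
    (h : AbDual.IsTranspose f φ ψ ft) (h' : AbDual.IsTranspose g ψ θ gt) :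
    AbDual.IsTranspose (f ≫ g) φ θ (gt ≫ ft) := by
  intro T c hc
  have hc' : AbDual.IsPicZeroCl B.hom T (PicF.pullCl (g ▷ T).left c) := picZero_whiskerRight g hc
  rw [← Category.assoc, ← h' T c hc, bcMap_eq, bcMap_eq, comp_whiskerRight, Over.comp_left, ← pullCl_pullCl,
    ← h T _ hc', bcMap_eq]

theorem isTranspose_one [GrpObj A] [GrpObj At] [IsProper A.hom] [Smooth A.hom] [GeometricallyConnected A.hom]
    [IsSeparated At.hom] (hφ : AbDual.IsDualAV Scheme.fppfPrecoverage A At φ) :
    AbDual.IsTranspose (1 : A ⟶ A) φ φ (1 : At ⟶ At) := by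
  intro T c hc
  rw [bcMap_eq, phi_whiskerRight_one hc hφ]
  simp [Hom.one_def]

theorem isTranspose_pow [GrpObj A] [GrpObj At] [IsProper A.hom] [Smooth A.hom] [GeometricallyConnected A.hom]
    [IsSeparated At.hom] (hφ : AbDual.IsDualAV Scheme.fppfPrecoverage A At φ) (n : ℕ) :
    AbDual.IsTranspose (𝟙 A ^ n) φ φ (𝟙 At ^ n) := by
  induction n with
  | zero => simpa using isTranspose_one hφ
  | succ n ih =>
    intro T c hc
    rw [bcMap_eq, pow_succ, phi_square hφ hc hφ, ← bcMap_eq, ih T c hc, pow_succ, MonObj.comp_mul,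
      id_whiskerRight, Over.id_left, PicLoc.pullCl_id, Category.comp_id]

end Comp

section BaseChange

variable {S S' : Scheme.{u}} (β : S' ⟶ S) {A At B Bt : Over S} [GrpObj At] [GrpObj Bt]
  (φ : ∀ T : Over S, PicF.Cl (PicF.XT A.hom T) → (T ⟶ At))
  (ψ : ∀ T : Over S, PicF.Cl (PicF.XT B.hom T) → (T ⟶ Bt))

theorem bcMap_bcIso (f : A ⟶ B) (T : Over S') :
    AbDual.bcMap ((Over.pullback β).map f) T ≫ (bcIso β B T).hom =
      (bcIso β A T).hom ≫ AbDual.bcMap f ((Over.map β).obj T) := by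
  apply pullback.hom_ext <;> simp [bcIso, AbDual.bcMap]

theorem isTranspose_bc {f : A ⟶ B} {ft : Bt ⟶ At} (h : AbDual.IsTranspose f φ ψ ft) :
    AbDual.IsTranspose ((Over.pullback β).map f) (bcPhi β φ) (bcPhi β ψ) ((Over.pullback β).map ft) := by
  intro T c hc
  refine DiagGL.fl_injective β At ?_
  rw [DiagGL.fl_comp_map, fl_bcPhi, fl_bcPhi, ← h _ _ (picZero_down β B hc), pullCl_pullCl, pullCl_pullCl]
  congr 2
  rw [Iso.inv_comp_eq, ← Category.assoc, ← bcMap_bcIso, Category.assoc, Iso.hom_inv_id, Category.comp_id]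

end BaseChange

section Field

variable {k : Type u} [Field k]

/-- A surjective homomorphism of abelian varieties with finite kernel is finite and flat. -/
theorem isFinite_flat_of_kernel {A B : Over (Spec (CommRingCat.of k))} [GrpObj A] [GrpObj B]
    [IsProper A.hom] [IsProper B.hom] [IsReduced B.left] (f : A ⟶ B) [IsMonHom f] [Surjective f.left]
    {N : Over (Spec (CommRingCat.of k))} (i : N ⟶ A) (hN : AlgGrp.IsKernel i f) [IsFinite N.hom] :
    IsFinite f.left ∧ Flat f.left := by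
  haveI := AbRigid.flat_of_surjective_of_isReduced A B f
  haveI : IsProper (f.left ≫ B.hom) := by rw [Over.w]; infer_instance
  haveI : IsProper f.left := IsProper.of_comp f.left B.hom
  haveI : LocallyQuasiFinite f.left := GrpUnr20.locallyQuasiFinite_of_kernel f i hN inferInstance
  exact ⟨AbRigid.isFinite_of_flat_of_locallyQuasiFinite A B f, inferInstance⟩

variable {A At B Bt : Over (Spec (CommRingCat.of k))}
  [GrpObj A] [IsProper A.hom] [Smooth A.hom] [GeometricallyConnected A.hom]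
  [GrpObj At] [IsProper At.hom] [Smooth At.hom] [GeometricallyConnected At.hom]
  [GrpObj B] [IsProper B.hom] [Smooth B.hom] [GeometricallyConnected B.hom]
  [GrpObj Bt] [IsProper Bt.hom] [Smooth Bt.hom] [GeometricallyConnected Bt.hom]
  {φ : ∀ T : Over (Spec (CommRingCat.of k)), PicF.Cl (PicF.XT A.hom T) → (T ⟶ At)}
  {ψ : ∀ T : Over (Spec (CommRingCat.of k)), PicF.Cl (PicF.XT B.hom T) → (T ⟶ Bt)}
  (hφ : AbDual.IsDualAV Scheme.fppfPrecoverage A At φ) (hψ : AbDual.IsDualAV Scheme.fppfPrecoverage B Bt ψ)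

include hφ hψ in
/-- The transpose of an isogeny is an isogeny of the same degree. -/
theorem transpose_isogeny (f : A ⟶ B) [IsMonHom f] [IsFinite f.left] [Flat f.left] [Surjective f.left]
    {d : ℕ} (hd : ∀ y : B.left, f.left.finrank y = d) {ft : Bt ⟶ At} (hft : AbDual.IsTranspose f φ ψ ft) :
    IsFinite ft.left ∧ Flat ft.left ∧ Surjective ft.left ∧ ∀ x : At.left, ft.left.finrank x = d := by
  haveI : GeometricallyIntegral A.hom := AbRigid.geometricallyIntegral_of_smooth A
  haveI : GeometricallyIntegral B.hom := AbRigid.geometricallyIntegral_of_smooth B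
  haveI : GeometricallyIntegral At.hom := AbRigid.geometricallyIntegral_of_smooth At
  haveI : GeometricallyIntegral Bt.hom := AbRigid.geometricallyIntegral_of_smooth Bt
  haveI : IsIntegral At.left := GeometricallyIntegral.isIntegral_of_subsingleton At.hom
  haveI : GeometricallyReduced A.hom := AbRigid.geometricallyReduced_of_smooth A.hom
  haveI : GeometricallyReduced B.hom := AbRigid.geometricallyReduced_of_smooth B.hom
  haveI : IsMonHom ft := RatMapAV.isMonHom_of_smooth Bt At ft (by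
    have h := one_comp_transpose hφ hψ hft (𝟙_ _)
    rwa [Hom.one_def, Hom.one_def, toUnit_unique (toUnit _) (𝟙 _), Category.id_comp, Category.id_comp] at h)
  have h1 : 1 ≤ d := by
    have h := (Scheme.Hom.one_le_finrank_iff_surjective f.left).2 inferInstance (η[B].left (IsLocalRing.closedPoint k))
    rwa [hd] at h
  obtain ⟨⟨g, ⟨hg, hfg⟩, -⟩, hall⟩ := S7790.result A B f d h1 (fun s => hd _)
  obtain ⟨hgf, -, -, -⟩ := hall g hg hfg
  obtain ⟨gt, hgt⟩ := exists_transpose hψ hφ g
  have e1 : gt ≫ ft = 𝟙 At ^ d :=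
    transpose_unique hφ (hfg ▸ isTranspose_comp hft hgt) (isTranspose_pow hφ d)
  have e2 : ft ≫ gt = 𝟙 Bt ^ d :=
    transpose_unique hψ (hgf ▸ isTranspose_comp hgt hft) (isTranspose_pow hψ d)
  obtain ⟨hBf, -, -⟩ := AVDegree22.isFinite_flat_surjective_pow Bt (n := d) h1
  obtain ⟨-, -, hAs⟩ := AVDegree22.isFinite_flat_surjective_pow At (n := d) h1
  haveI : IsProper (ft.left ≫ At.hom) := by rw [Over.w]; infer_instance
  haveI : IsProper ft.left := IsProper.of_comp ft.left At.hom
  haveI : IsProper (gt.left ≫ Bt.hom) := by rw [Over.w]; infer_instance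
  haveI : IsProper gt.left := IsProper.of_comp gt.left Bt.hom
  haveI : IsFinite (ft.left ≫ gt.left) := by rw [← Over.comp_left, e2]; exact hBf
  haveI : IsFinite ft.left := IsFinite.of_comp ft.left gt.left
  haveI : Surjective (gt.left ≫ ft.left) := by rw [← Over.comp_left, e1]; exact hAs
  haveI : Surjective ft.left := Surjective.of_comp gt.left ft.left
  haveI : Flat ft.left := AbRigid.flat_of_surjective_of_isReduced Bt At ft
  refine ⟨inferInstance, inferInstance, inferInstance, ?_⟩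
  haveI : LocallyOfFinitePresentation (ft.left ≫ At.hom) := by rw [Over.w]; infer_instance
  haveI : LocallyOfFinitePresentation ft.left := SchBasic.locallyOfFinitePresentation_of_comp ft.left At.hom
  obtain ⟨e, he⟩ : ∃ e, ∀ x : At.left, ft.left.finrank x = e :=
    ⟨_, fun x => (Scheme.Hom.isLocallyConstant_finrank ft.left).apply_eq_of_preconnectedSpace x
      (η[At].left (IsLocalRing.closedPoint k))⟩
  obtain ⟨ξA, hξA⟩ := exists_poincare_base hφ
  obtain ⟨ξB, hξB⟩ := exists_poincare_base hψ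
  have key : PicF.pullCl (A ◁ ft).left ξA = PicF.pullCl (f ▷ Bt).left ξB := by
    have hf1 : (1 : Bt ⟶ A) ≫ f = 1 := MonObj.one_comp f
    refine RigDesc22.eq_of_phi_eq A.hom η[A].left (Over.w η[A]) (RigDesc22.good_picZero A.hom)
      hφ.relPic.locallyInjective (fun U τ => AbDual21.bijective_appTop_snd A U τ)
      (picZero_whisker ft hξA.1) (picZero_whiskerRight f hξB.1) ?_ ?_ ?_
    · refine (KernelKL22.isTrivialCl_secT_iff _).2 ?_
      rw [unitCl, pullCl_pullCl, ← Over.comp_left,
        show lift (1 : Bt ⟶ A) (𝟙 Bt) ≫ A ◁ ft = ft ≫ lift (1 : At ⟶ A) (𝟙 At) by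
          apply CartesianMonoidalCategory.hom_ext <;> simp, Over.comp_left, ← pullCl_pullCl]
      exact pullCl_trivial _ ((KernelKL22.isTrivialCl_secT_iff _).1 hξA.2.2)
    · refine (KernelKL22.isTrivialCl_secT_iff _).2 ?_
      rw [unitCl, pullCl_pullCl, ← Over.comp_left,
        show lift (1 : Bt ⟶ A) (𝟙 Bt) ≫ f ▷ Bt = lift (1 : Bt ⟶ B) (𝟙 Bt) by
          apply CartesianMonoidalCategory.hom_ext <;> simp [hf1]]
      exact (KernelKL22.isTrivialCl_secT_iff _).1 hξB.2.2
    · rw [phi_natural hφ _ hξA.1, hξA.2.1, Category.comp_id, ← bcMap_eq, hft _ _ hξB.1, hξB.2.1, Category.id_comp]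
  obtain ⟨P, rfl, hP⟩ := picZero_invertible hξA.1
  obtain ⟨Q, rfl, hQ⟩ := picZero_invertible hξB.1
  obtain ⟨g₁, hg₁⟩ := Index22.exists_dim (A := A)
  obtain ⟨g₂, hg₂⟩ := Index22.exists_dim (A := B)
  have hcA := RR22.euler_poincare hφ hP hξA hg₁
  have hcB := RR22.euler_poincare hψ hQ hξB hg₂
  obtain ⟨i1, i2, i3⟩ := RR22.finrank_whiskerLeft (A := A) ft he
  obtain ⟨j1, j2, j3⟩ : IsFinite (f ▷ Bt).left ∧ Flat (f ▷ Bt).left ∧
      ∀ y : (B ⊗ Bt).left, (f ▷ Bt).left.finrank y = d := by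
    have hpb : IsPullback (fst A Bt).left (f ▷ Bt).left f.left (fst B Bt).left := by
      refine IsPullback.of_bot ?_ (congrArg CommaMorphism.left (whiskerRight_fst f Bt)).symm
        (IsPullback.of_hasPullback B.hom Bt.hom)
      have h1 : (f ▷ Bt).left ≫ pullback.snd B.hom Bt.hom = pullback.snd A.hom Bt.hom :=
        congrArg CommaMorphism.left (whiskerRight_snd f Bt)
      rw [Over.w f, h1]
      exact IsPullback.of_hasPullback A.hom Bt.hom
    refine ⟨MorphismProperty.of_isPullback hpb inferInstance, MorphismProperty.of_isPullback hpb inferInstance,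
      fun y => ?_⟩
    rw [Scheme.Hom.finrank_of_isPullback _ _ _ _ hpb y, hd]
  haveI : IsProper (A ⊗ At).hom := inferInstanceAs (IsProper (pullback.fst A.hom At.hom ≫ A.hom))
  haveI : IsProper (A ⊗ Bt).hom := inferInstanceAs (IsProper (pullback.fst A.hom Bt.hom ≫ A.hom))
  haveI : IsProper (B ⊗ Bt).hom := inferInstanceAs (IsProper (pullback.fst B.hom Bt.hom ≫ B.hom))
  haveI := AbRigid.geometricallyIntegral_tensorObj A At
  haveI := AbRigid.geometricallyIntegral_tensorObj A Bt
  haveI := AbRigid.geometricallyIntegral_tensorObj B Bt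
  have e3 := IsogEuler22.euler_pullback (A ◁ ft) e i3 (CubeField.isCoh_of_isInvertible hP)
  have e4 := IsogEuler22.euler_pullback (f ▷ Bt) d j3 (CubeField.isCoh_of_isInvertible hQ)
  obtain ⟨i⟩ := (PicGrp.cl_eq_cl_iff _ _).1
    (((PicLoc.pullCl_cl (A ◁ ft).left P).symm.trans key).trans (PicLoc.pullCl_cl (f ▷ Bt).left Q))
  letI : (A ⊗ Bt).left.Over (Spec (CommRingCat.of k)) := ⟨(A ⊗ Bt).hom⟩
  have e5 := CurveCoh17.euler_iso (k := k) (X := (A ⊗ Bt).left) i
  rw [e3, e4, hcA, hcB] at e5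
  intro x
  rw [he]
  have e6 := congrArg Int.natAbs e5
  simpa [Int.natAbs_mul, Int.natAbs_pow] using e6

end Field

end Groth.Agent.AbDual22

end
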